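import Mathlib
import Groth.Agent.H8Props.FieldDimFormula
import Groth.Agent.H8Props.FieldDimEquidim
import Groth.Agent.H7Flat.FibreDegree
import Groth.Agent.H7Flat.GenericFlatness
import Groth.Agent.H17.GenFiniteDense
import Groth.Agent.H13AlgSp.DenseFiniteScheme
import Groth.Agent.H22Alg.FiniteDegree
import Groth.Agent.H22Alg.CycBasic
import Groth.Agent.H12Pic.CyclicCover.Connected

/-!
# Fibre ranks of dominant morphisms between integral schemes of the same dimension

* the generic fibre is one point, and the function field extension is finite;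
* over a nonempty open the morphism is finite flat with fibre rank equal to the degree.
-/

set_option autoImplicit false
set_option backward.isDefEq.respectTransparency false
set_option linter.style.haveILetI false
universe u

open CategoryTheory CategoryTheory.Limits AlgebraicGeometry TopologicalSpace Topology
open Groth.Agent.H8Props.FieldDim Groth.Agent.H7Flat.FibreDegree

namespace Groth.Agent.H27FibreRank

variable {k : Type u} [Field k] {X Y : Scheme.{u}} (qX : X ⟶ Spec (CommRingCat.of k))
  (qY : Y ⟶ Spec (CommRingCat.of k)) [LocallyOfFiniteType qX] [LocallyOfFiniteType qY]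
  (f : X ⟶ Y)

include qX qY in
/-- A dominant morphism between irreducible schemes of the same dimension has one point over the generic point. -/
theorem preimage_genericPoint [IrreducibleSpace X] [IrreducibleSpace Y] [IsDominant f] (hf : f ≫ qY = qX)
    (hdim : topologicalKrullDim X = topologicalKrullDim Y) :
    f ⁻¹' {genericPoint Y} = {genericPoint X} := by
  haveI : LocallyOfFiniteType f := locallyOfFiniteType_of_over qX qY f hf
  have hgen : f (genericPoint X) = genericPoint Y := H17.GenFinite.map_genericPoint_of_isDominant f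
  have hX : cdim (genericPoint X) = topologicalKrullDim X := by
    rw [cdim, genericPoint_closure]
    exact IsHomeomorph.topologicalKrullDim_eq _ (Homeomorph.Set.univ X).isHomeomorph
  have hY : cdim (genericPoint Y) = topologicalKrullDim Y := by
    rw [cdim, genericPoint_closure]
    exact IsHomeomorph.topologicalKrullDim_eq _ (Homeomorph.Set.univ Y).isHomeomorph
  refine Set.eq_singleton_iff_unique_mem.2 ⟨hgen, fun x hx => ?_⟩
  by_contra hne
  have h1 := cdim_eq_add qX qY f hf x
  have hfx : cdim (f x) = cdim (genericPoint X) := by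
    rw [show f x = genericPoint Y from hx, hY, ← hdim, ← hX]
  rw [hfx] at h1
  have h2 := cdim_lt qX (genericPoint_specializes x) (Ne.symm hne)
  obtain ⟨a, ha⟩ := exists_nat_cdim qX (genericPoint X)
  obtain ⟨b, hb⟩ := exists_nat_cdim qX x
  haveI := locallyOfFiniteType_fiberToSpec f (f x)
  obtain ⟨c, hc⟩ := exists_nat_cdim (f.fiberToSpecResidueField (f x)) (f.asFiber x)
  rw [ha, hb, hc] at h1
  rw [ha, hb] at h2
  have h1' : b = c + a := by exact_mod_cast h1
  have h2' : b < a := by exact_mod_cast h2
  omega

include qX qY in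
/-- The residue field extension at the generic point is finite. -/
theorem finite_residueFieldMap_genericPoint [IrreducibleSpace X] [IrreducibleSpace Y] [IsDominant f]
    (hf : f ≫ qY = qX) (hdim : topologicalKrullDim X = topologicalKrullDim Y) :
    (f.residueFieldMap (genericPoint X)).hom.Finite := by
  haveI : LocallyOfFiniteType f := locallyOfFiniteType_of_over qX qY f hf
  refine H17.finite_residueFieldMap f _ ?_
  have h := preimage_genericPoint qX qY f hf hdim
  have hgen : f (genericPoint X) = genericPoint Y := H17.GenFinite.map_genericPoint_of_isDominant f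
  have hsub : ∀ u : f.fiber (f (genericPoint X)), u = f.asFiber (genericPoint X) := fun u => by
    apply (f.fiberι (f (genericPoint X))).isEmbedding.injective
    rw [Scheme.Hom.fiberι_asFiber]
    have hu : f.fiberι _ u ∈ f ⁻¹' {genericPoint Y} := by
      rw [← hgen, ← f.range_fiberι]
      exact Set.mem_range_self u
    rw [h] at hu
    exact hu
  rw [show ({f.asFiber (genericPoint X)} : Set (f.fiber (f (genericPoint X)))) = Set.univ from
    (Set.eq_univ_of_forall fun u => hsub u).symm ▸ rfl]
  exact isClosed_univ

/-- The fibre of a morphism over a point of an open subscheme is the fibre of the restriction. -/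
theorem exists_iso_fibre_morphismRestrict (V : Y.Opens) (y : V.toScheme) :
    ∃ (g : Spec (CommRingCat.of (Y.residueField y.1)) ⟶ V.toScheme)
      (e : pullback (f ∣_ V) g ⟶ pullback f (Y.fromSpecResidueField y.1)),
      IsIso e ∧ e ≫ pullback.snd f (Y.fromSpecResidueField y.1) = pullback.snd (f ∣_ V) g ∧
        ∀ x, g x = y := by
  have hr : Set.range (Y.fromSpecResidueField y.1) ⊆ Set.range V.ι := by
    rw [Scheme.range_fromSpecResidueField, Scheme.Opens.range_ι]
    exact Set.singleton_subset_iff.2 y.2
  let g := IsOpenImmersion.lift V.ι (Y.fromSpecResidueField y.1) hr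
  have hg : g ≫ V.ι = Y.fromSpecResidueField y.1 := IsOpenImmersion.lift_fac _ _ _
  have h0 := (IsPullback.of_hasPullback (f ∣_ V) g).paste_horiz (isPullback_morphismRestrict f V).flip
  rw [hg] at h0
  refine ⟨g, h0.isoPullback.hom, inferInstance, h0.isoPullback_hom_snd, fun x => ?_⟩
  apply V.ι.isOpenEmbedding.injective
  rw [← Scheme.Hom.comp_apply, hg]
  exact Scheme.fromSpecResidueField_apply _ _

/-- Fibre ranks of a morphism which is finite flat over an open are given by `finrank`. -/
theorem fibre_of_finite_flat (V : Y.Opens) [IsFinite (f ∣_ V)] [Flat (f ∣_ V)] (y : V.toScheme) :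
    IsFinite (pullback.snd f (Y.fromSpecResidueField y.1)) ∧
      rk (pullback.snd f (Y.fromSpecResidueField y.1)) = ((f ∣_ V).finrank y : Cardinal.{u}) := by
  obtain ⟨g, e, he, hesnd, hg⟩ := exists_iso_fibre_morphismRestrict f V y
  haveI := he
  have hfin : IsFinite (pullback.snd f (Y.fromSpecResidueField y.1)) := by
    rw [← MorphismProperty.cancel_left_of_respectsIso @IsFinite e, hesnd]
    infer_instance
  refine ⟨hfin, ?_⟩
  haveI : IsFinite (pullback.snd (f ∣_ V) g) := inferInstance
  rw [← rk_eq_of_iso _ (pullback.snd (f ∣_ V) g) e hesnd,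
    rk_eq_finrank _ (IsLocalRing.closedPoint (Y.residueField y.1)), Scheme.Hom.finrank_pullback_snd]
  exact congrArg _ (congrArg _ (hg _))

/-- The rank of a finite flat morphism at the generic point of the target. -/
theorem finrank_genericPoint [IsIntegral X] [IsIntegral Y] [IsFinite f] [Flat f]
    (h : f ⁻¹' {genericPoint Y} = {genericPoint X}) :
    f.finrank (genericPoint Y) = f.residueDegree (genericPoint X) := by
  rw [← H22Alg.FiniteDegree.finsum_fibre_eq_finrank, h, finsum_mem_singleton]
  have hgen : f (genericPoint X) = genericPoint Y := by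
    have : genericPoint X ∈ f ⁻¹' {genericPoint Y} := by rw [h]; exact Set.mem_singleton _
    exact this
  have hY : IsLocalRing.maximalIdeal (Y.presheaf.stalk (f (genericPoint X))) = ⊥ :=
    IsLocalRing.isField_iff_maximalIdeal_eq.1 (hgen ▸ Field.toIsField Y.functionField)
  have hm : H22Alg.FiniteDegree.mult f (genericPoint X) = 1 := by
    rw [H22Alg.FiniteDegree.mult, hY, Ideal.map_bot]
    rw [(Submodule.quotEquivOfEqBot (⊥ : Ideal (X.presheaf.stalk (genericPoint X))) rfl).length_eq]
    haveI : IsSimpleModule X.functionField X.functionField := inferInstance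
    rw [show Module.length (X.presheaf.stalk (genericPoint X)) (X.presheaf.stalk (genericPoint X)) = 1 from
      Module.length_eq_one X.functionField X.functionField]
    rfl
  rw [hm, one_mul]

/-- Residue degrees of a restriction to an open of the target. -/
theorem residueDegree_morphismRestrict (V : Y.Opens) (x : (f ⁻¹ᵁ V).toScheme) :
    (f ∣_ V).residueDegree x = f.residueDegree x.1 := by
  have h1 := H22Alg.CycBasic.residueDegree_comp (f ∣_ V) V.ι x
  have h2 := H22Alg.CycBasic.residueDegree_comp (f ⁻¹ᵁ V).ι f x
  rw [H12Pic.CyclicCover.residueDegree_ι, one_mul] at h1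
  rw [H12Pic.CyclicCover.residueDegree_ι, mul_one] at h2
  rw [← h1, morphismRestrict_ι, h2]
  rfl

include qX qY in
/-- The generic fibre rank is the degree, and it is attained over a nonempty open with finite fibres. -/
theorem exists_open_fibre_rank [IsIntegral X] [IsIntegral Y] [QuasiCompact qX] [IsDominant f]
    (hf : f ≫ qY = qX) (hdim : topologicalKrullDim X = topologicalKrullDim Y) :
    ∃ V : Y.Opens, genericPoint Y ∈ V ∧ ∀ y : Y, y ∈ V →
      IsFinite (pullback.snd f (Y.fromSpecResidueField y)) ∧
        rk (pullback.snd f (Y.fromSpecResidueField y)) =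
          (f.residueDegree (genericPoint X) : Cardinal.{u}) := by
  haveI : LocallyOfFiniteType f := locallyOfFiniteType_of_over qX qY f hf
  haveI : IsLocallyNoetherian Y := LocallyOfFiniteType.isLocallyNoetherian qY
  haveI : IsLocallyNoetherian X := LocallyOfFiniteType.isLocallyNoetherian qX
  haveI : CompactSpace X := QuasiCompact.compactSpace_of_compactSpace qX
  haveI : QuasiCompact f := by
    haveI : IsNoetherian X := {}
    infer_instance
  set η := genericPoint Y with hη
  set ξ := genericPoint X with hξ
  have hfib := preimage_genericPoint qX qY f hf hdim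
  have hgen : f ξ = η := H17.GenFinite.map_genericPoint_of_isDominant f
  obtain ⟨V₀, hV₀, hηV₀, -⟩ := exists_isAffineOpen_mem_and_subset (X := Y) (x := η) (U := ⊤) trivial
  obtain ⟨U₀, hU₀, hξU₀, hU₀le⟩ := exists_isAffineOpen_mem_and_subset (X := X) (x := ξ) (U := f ⁻¹ᵁ V₀)
    (show f ξ ∈ V₀ from hgen ▸ hηV₀)
  obtain ⟨s, hηs, hfin⟩ := H17.GenFinite.exists_isFinite_nhd f
    (η := η) (H17.mem_genericPoints_iff.2 fun z hz => ((genericPoint_specializes z).antisymm hz).eq.symm) hV₀ hηV₀
    (f.isCompact_preimage hV₀.isCompact) (by rw [hfib]; exact Set.finite_singleton _) (fun _ => U₀)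
    (fun x hx => by
      obtain rfl : x = ξ := hfib.subset hx
      exact ⟨hU₀, hξU₀, hU₀le⟩)
    (by rw [hfib]; exact Set.pairwiseDisjoint_singleton _ _)
  obtain ⟨D, hD, hflat, -⟩ := H7Flat.exists_dense_flatLFP f
  let V : Y.Opens := Y.basicOpen s ⊓ D
  have hηV : η ∈ V := by
    refine ⟨hηs, ?_⟩
    obtain ⟨z, hz⟩ := hD.nonempty
    exact (genericPoint_specializes z).mem_open D.2 hz
  haveI : IsFinite (f ∣_ V) :=
    H13AlgSp.DenseFinite.isFinite_restrict_le f (inf_le_left : V ≤ Y.basicOpen s) hfin
  haveI : Flat (f ∣_ V) := by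
    haveI := hflat
    have sq := (isPullback_morphismRestrict f V).flip
    have sqD := (isPullback_morphismRestrict f D).flip
    obtain ⟨l, hl₁, hl₂⟩ := sqD.exists_lift (f ⁻¹ᵁ V).ι ((f ∣_ V) ≫ Y.homOfLE (inf_le_right : V ≤ D))
      (by rw [Category.assoc, Scheme.homOfLE_ι, morphismRestrict_ι])
    refine MorphismProperty.of_isPullback (IsPullback.of_right ?_ hl₂ sqD) inferInstance
    rw [hl₁, Scheme.homOfLE_ι]
    exact sq
  haveI : Nonempty V.toScheme := ⟨⟨η, hηV⟩⟩
  haveI : Nonempty (f ⁻¹ᵁ V).toScheme := ⟨⟨ξ, show f ξ ∈ V from hgen ▸ hηV⟩⟩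
  haveI : IsIntegral V.toScheme := inferInstance
  haveI : IsIntegral (f ⁻¹ᵁ V).toScheme := inferInstance
  haveI : LocallyOfFinitePresentation (f ∣_ V) := inferInstance
  have hξ' : (genericPoint (f ⁻¹ᵁ V).toScheme).1 = ξ :=
    genericPoint_eq_of_isOpenImmersion (f ⁻¹ᵁ V).ι
  have hη' : (genericPoint V.toScheme).1 = η := genericPoint_eq_of_isOpenImmersion V.ι
  have hgenV : (f ∣_ V).finrank (genericPoint V.toScheme) = f.residueDegree ξ := by
    rw [finrank_genericPoint, residueDegree_morphismRestrict]
    · exact congrArg f.residueDegree hξ'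
    · ext z
      rw [Set.mem_preimage, Set.mem_singleton_iff, Set.mem_singleton_iff, ← SetLike.coe_eq_coe, hη',
        morphismRestrict_base_coe, ← SetLike.coe_eq_coe, hξ']
      exact ⟨fun h => hfib.subset h, fun h => by rw [h]; exact hgen⟩
  refine ⟨V, hηV, fun y hy => ?_⟩
  obtain ⟨h1, h2⟩ := fibre_of_finite_flat f V ⟨y, hy⟩
  refine ⟨h1, h2.trans ?_⟩
  rw [← hgenV]
  exact congrArg _ ((Scheme.Hom.isLocallyConstant_finrank (f ∣_ V)).apply_eq_of_preconnectedSpace _ _)

end Groth.Agent.H27FibreRank
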