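import Groth.Agent.H27FibreRank.Generic
import Groth.Agent.H8Props.MiracleFlat
import Groth.Agent.H4Depth.Regular

/-!
# Upper bound on fibre ranks between regular schemes of the same dimension

A morphism of integral schemes of the same dimension over a field with regular local rings is flat
where it is quasi-finite, so finite fibres have rank at most the generic one.
-/

set_option autoImplicit false
set_option backward.isDefEq.respectTransparency false
set_option linter.style.haveILetI false
universe u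

open CategoryTheory CategoryTheory.Limits AlgebraicGeometry TopologicalSpace Topology
open Groth.Agent.H8Props.FieldDim Groth.Agent.H7Flat.FibreDegree
open Groth.Agent.H13AlgSp.Degree

namespace Groth.Agent.H27FibreRank

variable {k : Type u} [Field k] {X Y : Scheme.{u}} (qX : X ⟶ Spec (CommRingCat.of k))
  (qY : Y ⟶ Spec (CommRingCat.of k)) [LocallyOfFiniteType qX] [LocallyOfFiniteType qY]
  (f : X ⟶ Y)

theorem withBot_eq_nat_of_add {a : WithBot ℕ∞} {n N : ℕ} (h : a + n = (N : WithBot ℕ∞)) :
    ∃ m : ℕ, a = m ∧ m + n = N := by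
  match a with
  | ⊥ => rw [WithBot.bot_add] at h; exact absurd h.symm (WithBot.natCast_ne_bot _)
  | (⊤ : ℕ∞) =>
    change ((⊤ : ℕ∞) : WithBot ℕ∞) + ((n : ℕ∞) : WithBot ℕ∞) = ((N : ℕ∞) : WithBot ℕ∞) at h
    rw [← WithBot.coe_add, top_add] at h
    exact absurd (WithBot.coe_injective h).symm (ENat.natCast_ne_top _)
  | ((e : ℕ) : ℕ∞) =>
    refine ⟨e, rfl, ?_⟩
    change ((e : ℕ∞) : WithBot ℕ∞) + ((n : ℕ∞) : WithBot ℕ∞) = ((N : ℕ∞) : WithBot ℕ∞) at h
    exact_mod_cast h

/-- The local dimension at an isolated point is zero. -/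
theorem localDim_le_zero_of_isOpen_singleton {Z : Type u} [TopologicalSpace Z] {z : Z}
    (h : IsOpen ({z} : Set Z)) : FlatMor.localDim Z z ≤ 0 := by
  refine iInf_le_of_le ⟨⟨{z}, h⟩, rfl⟩ ?_
  haveI : Subsingleton ({z} : Set Z) := Set.subsingleton_coe _ |>.2 Set.subsingleton_singleton
  haveI : Subsingleton (IrreducibleCloseds ({z} : Set Z)) := ⟨fun A B => SetLike.coe_injective <| by
    obtain ⟨a, ha⟩ := A.isIrreducible'.1
    obtain ⟨b, hb⟩ := B.isIrreducible'.1
    ext w
    exact ⟨fun _ => (Subsingleton.elim b w) ▸ hb, fun _ => (Subsingleton.elim a w) ▸ ha⟩⟩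
  exact Order.krullDim_nonpos_of_subsingleton

include qX qY in
/-- Miracle flatness for locally quasi-finite morphisms between schemes of the same dimension. -/
theorem flat_of_regular [IrreducibleSpace X] [IrreducibleSpace Y] [LocallyQuasiFinite f]
    (hf : f ≫ qY = qX) (hdim : topologicalKrullDim X = topologicalKrullDim Y)
    (hX : ∀ x : X, IsRegularLocalRing (X.presheaf.stalk x))
    (hY : ∀ y : Y, IsRegularLocalRing (Y.presheaf.stalk y)) : Flat f := by
  haveI : LocallyOfFiniteType f := locallyOfFiniteType_of_over qX qY f hf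
  refine (Flat.iff_flat_stalkMap f).2 fun x => ?_
  letI : Algebra (Y.presheaf.stalk (f x)) (X.presheaf.stalk x) := (f.stalkMap x).hom.toAlgebra
  haveI : IsLocalHom (algebraMap (Y.presheaf.stalk (f x)) (X.presheaf.stalk x)) :=
    inferInstanceAs (IsLocalHom (f.stalkMap x).hom)
  haveI := hY (f x)
  haveI := hX x
  haveI := H4Depth.isCohenMacaulayLocalRing_of_regular (X.presheaf.stalk x)
  haveI := locallyOfFiniteType_fiberToSpec f (f x)
  set q := f.fiberToSpecResidueField (f x)
  have hopen : IsOpen ({f.asFiber x} : Set (f.fiber (f x))) :=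
    Scheme.Hom.quasiFiniteAt_iff_isOpen_singleton_asFiber.1 (f.quasiFiniteAt x)
  have hloc : FlatMor.fibreDimAt f x =
      ringKrullDim ((f.fiber (f x)).presheaf.stalk (f.asFiber x)) + cdim (f.asFiber x) :=
    localDim_eq_stalk_add_cdim (k := Y.residueField (f x)) q (f.asFiber x)
  obtain ⟨c, hc⟩ := exists_nat_cdim q (f.asFiber x)
  obtain ⟨N, hN⟩ := exists_nat_localDim q (f.asFiber x)
  have hN' : FlatMor.localDim (f.fiber (f x)) (f.asFiber x) ≤ 0 := localDim_le_zero_of_isOpen_singleton hopen
  rw [hN] at hN'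
  obtain rfl : N = 0 := Nat.le_zero.1 (by exact_mod_cast hN')
  rw [FlatMor.fibreDimAt, hN, hc] at hloc
  obtain ⟨m, hm, hm'⟩ := withBot_eq_nat_of_add hloc.symm
  obtain ⟨rfl, rfl⟩ : m = 0 ∧ c = 0 := by omega
  -- dimensions
  have hcd := cdim_eq_add qX qY f hf x
  rw [hc] at hcd
  obtain ⟨a, ha⟩ := exists_nat_cdim qY (f x)
  rw [ha, Nat.cast_zero, zero_add] at hcd
  obtain ⟨D, hD⟩ := exists_nat_localDim qX x
  have hDX : (D : WithBot ℕ∞) = ringKrullDim (X.presheaf.stalk x) + (a : WithBot ℕ∞) := by
    rw [← hD, localDim_eq_stalk_add_cdim qX x, hcd]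
  have hDY : (D : WithBot ℕ∞) = ringKrullDim (Y.presheaf.stalk (f x)) + (a : WithBot ℕ∞) := by
    rw [← hD, localDim_eq_dim_of_irreducible qX x, hdim, ← localDim_eq_dim_of_irreducible qY (f x),
      localDim_eq_stalk_add_cdim qY (f x), ha]
  obtain ⟨b, hb, hb'⟩ := withBot_eq_nat_of_add hDX.symm
  obtain ⟨b', hb'', hb'''⟩ := withBot_eq_nat_of_add hDY.symm
  obtain rfl : b' = b := by omega
  apply H8Props.MiracleFlat.flat_of_regular_of_cohenMacaulay
  rw [hb'', hb]
  have hfib : ringKrullDim (X.presheaf.stalk x ⧸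
      (IsLocalRing.maximalIdeal (Y.presheaf.stalk (f x))).map (f.stalkMap x).hom) = 0 := by
    rw [ringKrullDim_eq_of_ringEquiv (H8Props.FibreStalk.asFiberStalkEquiv f x), hm, Nat.cast_zero]
  change (b' : WithBot ℕ∞) + ringKrullDim (X.presheaf.stalk x ⧸
      (IsLocalRing.maximalIdeal (Y.presheaf.stalk (f x))).map (f.stalkMap x).hom) ≤ _
  rw [hfib, add_zero]

/-- A fibre contained in an open is the fibre of the restriction to that open. -/
theorem rk_fibre_open (W : X.Opens) (t : Y) (h : f ⁻¹' {t} ⊆ W) :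
    rk (pullback.snd (W.ι ≫ f) (Y.fromSpecResidueField t)) = rk (pullback.snd f (Y.fromSpecResidueField t)) := by
  let g := Y.fromSpecResidueField t
  let P := pullback.fst f g ⁻¹ᵁ W
  have sq : IsPullback (pullback.fst f g ∣_ W) (P.ι ≫ pullback.snd f g) (W.ι ≫ f) g :=
    (isPullback_morphismRestrict (pullback.fst f g) W).paste_vert (IsPullback.of_hasPullback f g)
  have htop : P = ⊤ := by
    refine top_le_iff.1 fun z _ => h ?_
    show f (pullback.fst f g z) = t
    rw [← Scheme.Hom.comp_apply, pullback.condition, Scheme.Hom.comp_apply]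
    exact Scheme.fromSpecResidueField_apply _ _
  haveI : IsIso P.ι := by
    rw [htop]; exact inferInstanceAs (IsIso (Scheme.topIso (pullback f g)).hom)
  rw [← rk_eq_of_iso (pullback.snd f g) (P.ι ≫ pullback.snd f g) P.ι rfl]
  exact rk_eq_of_iso (P.ι ≫ pullback.snd f g) (pullback.snd (W.ι ≫ f) g) sq.isoPullback.inv
    sq.isoPullback_inv_snd

include qX qY in
theorem rk_fibre_le_degree [IsIntegral X] [IsIntegral Y] [QuasiCompact qX] [IsDominant f] [IsSeparated f]
    (hf : f ≫ qY = qX) (hdim : topologicalKrullDim X = topologicalKrullDim Y)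
    (hX : ∀ x : X, IsRegularLocalRing (X.presheaf.stalk x))
    (hY : ∀ y : Y, IsRegularLocalRing (Y.presheaf.stalk y)) (y : Y)
    (hy : IsFinite (pullback.snd f (Y.fromSpecResidueField y))) :
    rk (pullback.snd f (Y.fromSpecResidueField y)) ≤ (f.residueDegree (genericPoint X) : Cardinal.{u}) := by
  haveI : LocallyOfFiniteType f := locallyOfFiniteType_of_over qX qY f hf
  haveI : IsLocallyNoetherian X := LocallyOfFiniteType.isLocallyNoetherian qX
  haveI : IsLocallyNoetherian Y := LocallyOfFiniteType.isLocallyNoetherian qY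
  haveI : CompactSpace X := QuasiCompact.compactSpace_of_compactSpace qX
  haveI : IsNoetherian X := {}
  set η := genericPoint Y
  set ξ := genericPoint X
  have hgen : f ξ = η := H17.GenFinite.map_genericPoint_of_isDominant f
  have hfib := preimage_genericPoint qX qY f hf hdim
  -- quasi-finite locus
  let W := f.quasiFiniteLocus
  have hdisc : ∀ x, f x = y → x ∈ W := by
    intro x hx
    subst hx
    rw [Scheme.Hom.mem_quasiFiniteLocus, Scheme.Hom.quasiFiniteAt_iff_isOpen_singleton_asFiber]
    haveI : IsFinite (f.fiberToSpecResidueField (f x)) := hy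
    haveI : DiscreteTopology (f.fiber (f x)) := by
      have h := (f.fiberToSpecResidueField (f x)).isDiscrete_preimage_singleton
        (IsLocalRing.closedPoint (Y.residueField (f x)))
      rw [show (f.fiberToSpecResidueField (f x) ⁻¹' {IsLocalRing.closedPoint (Y.residueField (f x))} : Set _) =
        Set.univ from Set.eq_univ_of_forall fun z => Subsingleton.elim _ _] at h
      exact isDiscrete_univ_iff.1 h
    exact isOpen_discrete _
  have hξW : ξ ∈ W := by
    rw [Scheme.Hom.mem_quasiFiniteLocus, Scheme.Hom.quasiFiniteAt_iff_isOpen_singleton_asFiber]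
    rw [show ({f.asFiber ξ} : Set (f.fiber (f ξ))) = Set.univ from Set.eq_univ_of_forall fun u => ?_]
    · exact isOpen_univ
    · apply (f.fiberι (f ξ)).isEmbedding.injective
      rw [Scheme.Hom.fiberι_asFiber]
      have hu : f.fiberι _ u ∈ f ⁻¹' {η} := by
        rw [← hgen, ← f.range_fiberι]
        exact Set.mem_range_self u
      rw [hfib] at hu
      exact hu
  let g := W.ι ≫ f
  haveI : LocallyQuasiFinite g := by
    refine locallyQuasiFinite_iff_isDiscrete_preimage_singleton.2 fun t => ?_
    have hq : ∀ w : W.toScheme, IsOpen ({g.asFiber w} : Set (g.fiber (g w))) := fun w => by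
      refine Scheme.Hom.quasiFiniteAt_iff_isOpen_singleton_asFiber.1 ?_
      rw [Scheme.Hom.quasiFiniteAt_comp_iff_of_isOpenImmersion]
      exact w.2
    haveI : DiscreteTopology (g.fiber t) := discreteTopology_iff_isOpen_singleton.2 fun u => by
      have hw : g (g.fiberι t u) = t := (g.range_fiberι t).subset ⟨u, rfl⟩
      generalize hwdef : g.fiberι t u = w at hw
      subst hw
      rw [show u = g.asFiber w from (g.fiberι (g w)).isEmbedding.injective
        (by rw [Scheme.Hom.fiberι_asFiber]; exact hwdef)]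
      exact hq w
    exact isDiscrete_iff_discreteTopology.2 (g.fiberHomeo t).symm.isEmbedding.discreteTopology
  haveI : IrreducibleSpace W.toScheme := by
    haveI : Nonempty W.toScheme := ⟨⟨ξ, hξW⟩⟩
    haveI : IsIntegral W.toScheme := inferInstance
    infer_instance
  haveI : LocallyOfFiniteType (W.ι ≫ qX) := inferInstance
  have hgq : g ≫ qY = W.ι ≫ qX := by rw [Category.assoc, hf]
  have hdimW : topologicalKrullDim W.toScheme = topologicalKrullDim Y := by
    rw [← hdim]
    refine le_antisymm W.ι.isEmbedding.isInducing.topologicalKrullDim_le ?_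
    have hX' : cdim ξ = topologicalKrullDim X := by
      rw [cdim, genericPoint_closure]
      exact IsHomeomorph.topologicalKrullDim_eq _ (Homeomorph.Set.univ X).isHomeomorph
    have h1 := cdim_eq_add (W.ι ≫ qX) qX W.ι rfl (⟨ξ, hξW⟩ : W.toScheme)
    haveI := locallyOfFiniteType_fiberToSpec W.ι (W.ι (⟨ξ, hξW⟩ : W.toScheme))
    obtain ⟨c, hc⟩ := exists_nat_cdim (W.ι.fiberToSpecResidueField (W.ι (⟨ξ, hξW⟩ : W.toScheme)))
      (W.ι.asFiber (⟨ξ, hξW⟩ : W.toScheme))
    rw [hc] at h1
    refine le_trans ?_ (IsEmbedding.subtypeVal.isInducing.topologicalKrullDim_le :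
      cdim (⟨ξ, hξW⟩ : W.toScheme) ≤ topologicalKrullDim W.toScheme)
    change _ ≤ cdim (⟨ξ, hξW⟩ : W.toScheme)
    rw [h1, ← hX']
    exact le_add_of_nonneg_left (Nat.cast_nonneg' c)
  haveI : Flat g := by
    refine flat_of_regular (W.ι ≫ qX) qY g hgq hdimW (fun w => ?_) hY
    haveI := hX w.1
    exact IsRegularLocalRing.of_ringEquiv (W.stalkIso w).commRingCatIsoToRingEquiv.symm
  haveI : QuasiCompact g := inferInstance
  haveI : LocallyOfFinitePresentation g := inferInstance
  have hfin : ∀ t : Y, (g ⁻¹' {t}).Finite := fun t => g.finite_preimage_singleton t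
  have hdeg : ∀ t : Y, rk (pullback.snd g (Y.fromSpecResidueField t)) = (deg g t : Cardinal.{u}) := fun t => by
    haveI : IsFinite (pullback.snd g (Y.fromSpecResidueField t)) := isFinite_fiber g t (hfin t)
    exact rk_eq_finrank _ _
  have hy' : rk (pullback.snd f (Y.fromSpecResidueField y)) = (deg g y : Cardinal.{u}) := by
    rw [← rk_fibre_open f W y fun x hx => hdisc x hx, hdeg]
  have hη' : (deg g η : Cardinal.{u}) = (f.residueDegree ξ : Cardinal.{u}) := by
    rw [← hdeg, rk_fibre_open f W η (by rw [hfib]; exact Set.singleton_subset_iff.2 hξW)]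
    obtain ⟨V, hV, h⟩ := exists_open_fibre_rank qX qY f hf hdim
    exact (h η hV).2
  rw [hy', ← hη']
  refine Nat.cast_le.2 ?_
  exact (genericPoint_specializes y).mem_open (isOpen_le_deg g hfin (deg g y)) (show deg g y ≤ deg g y from le_rfl)

end Groth.Agent.H27FibreRank
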